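import Groth.Prelude.Def_CohB1
import Groth.Agent.KFlatLib.Stalk
import Groth.Agent.DetDegLib.Main
import Groth.Agent.CurvLib.StalkSum
import Mathlib.LinearAlgebra.Matrix.Determinant.Basic

/-!
# The multiplication map to the determinant is not injective
-/

set_option autoImplicit false
set_option maxHeartbeats 1000000
set_option backward.isDefEq.respectTransparency false
set_option linter.style.haveILetI false
universe u
open CategoryTheory CategoryTheory.Limits AlgebraicGeometry TopologicalSpace Opposite DevissLib QCohLib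
open scoped TensorProduct

noncomputable section

namespace AVMulDetLib

variable {X : Scheme.{u}}

/-- Germs of the members of a generically generating family span the stalk. -/
theorem span_germ_eq_top {E : X.Modules} (U : X.Opens) {J : Type u} (s : J → (Coh.structureModule X ⟶ E))
    (hs : Epi ((Scheme.Modules.restrictFunctor U.ι).map (Sigma.desc s))) {x : X} (hx : x ∈ U) :
    Submodule.span (X.presheaf.stalk x)
      (Set.range fun j => gm E x (show x ∈ (⊤ : X.Opens) from trivial) ((s j).app ⊤ (1 : Γ(X, ⊤)))) = ⊤ := by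
  let φ := Sigma.desc s
  let v : (U : Scheme.{u}) := ⟨x, hx⟩
  have hsurj : Function.Surjective ((St x).map φ).hom := by
    haveI := hs
    haveI : Epi ((DerSch.stalkFunctor (U : Scheme.{u}) v).map
        ((Scheme.Modules.restrictFunctor U.ι).map φ)) := inferInstance
    haveI hv : Epi ((Scheme.Modules.restrictFunctor U.ι ⋙ Scheme.Modules.toPresheaf (U : Scheme.{u}) ⋙
        TopCat.Presheaf.stalkFunctor Ab.{u} (v : (U : Scheme.{u}).toTopCat)).map φ) :=
      ConcreteCategory.epi_of_surjective _ ((ModuleCat.epi_iff_surjective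
        ((DerSch.stalkFunctor (U : Scheme.{u}) v).map ((Scheme.Modules.restrictFunctor U.ι).map φ))).1 inferInstance)
    let η := Scheme.Modules.restrictStalkNatIso U.ι v
    haveI : Epi ((Scheme.Modules.toPresheaf X ⋙
        TopCat.Presheaf.stalkFunctor Ab.{u} (U.ι v : X.toTopCat)).map φ) := by
      haveI : Epi (η.hom.app _ ≫ (Scheme.Modules.toPresheaf X ⋙
          TopCat.Presheaf.stalkFunctor Ab.{u} (U.ι v : X.toTopCat)).map φ) := by
        rw [← η.hom.naturality φ]; exact epi_comp _ _
      exact epi_of_epi (η.hom.app _) _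
    exact (AddCommGrpCat.epi_iff_surjective ((Scheme.Modules.toPresheaf X ⋙
      TopCat.Presheaf.stalkFunctor Ab.{u} (U.ι v : X.toTopCat)).map φ)).1 inferInstance
  let N := Submodule.span (X.presheaf.stalk x)
    (Set.range fun j => gm E x (show x ∈ (⊤ : X.Opens) from trivial) ((s j).app ⊤ (1 : Γ(X, ⊤))))
  let q : (St x).obj E ⟶ ModuleCat.of (X.presheaf.stalk x) (((St x).obj E) ⧸ N) := ModuleCat.ofHom N.mkQ
  have hz : (St x).map φ ≫ q = 0 := by
    refine Cofan.IsColimit.hom_ext (isColimitCofanMkObjOfIsColimit (St x) _ _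
      (coproductIsCoproduct fun _ : J => Coh.structureModule X)) _ _ fun j => ?_
    have e : (St x).map (Sigma.ι (fun _ : J => Coh.structureModule X) j) ≫ (St x).map φ = (St x).map (s j) :=
      ((St x).map_comp _ _).symm.trans (congrArg (St x).map (Sigma.ι_desc _ _))
    simp only [Cofan.inj, Cofan.mk_ι_app]
    rw [comp_zero, reassoc_of% e]
    ext a
    obtain ⟨W, hW, c, rfl⟩ := exists_gm_eq (Coh.structureModule X) x a
    change N.mkQ (((St x).map (s j)).hom (gm _ x hW c)) = 0
    refine (Submodule.Quotient.mk_eq_zero N).mpr ?_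
    rw [gm_app]
    have h1 : (s j).app W c = (show Γ(X, W) from c) •
        E.presheaf.map (homOfLE (le_top : W ≤ ⊤)).op ((s j).app ⊤ (1 : Γ(X, ⊤))) := by
      have hn : (s j).app W ((Coh.structureModule X).presheaf.map (homOfLE (le_top : W ≤ ⊤)).op (1 : Γ(X, ⊤))) =
          E.presheaf.map (homOfLE (le_top : W ≤ ⊤)).op ((s j).app ⊤ (1 : Γ(X, ⊤))) :=
        PresheafOfModules.naturality_apply (s j).val (homOfLE (le_top : W ≤ ⊤)).op (1 : Γ(X, ⊤))
      rw [← hn]
      refine Eq.trans ?_ (QCohLib.app_smul (s j) W _ _)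
      refine congrArg ((s j).app W) ?_
      exact ((congrArg (fun z : Γ(X, W) => (show Γ(X, W) from c) * z)
        (map_one (X.presheaf.map (homOfLE (le_top : W ≤ ⊤)).op).hom)).trans (mul_one _)).symm
    rw [h1, gm_smul, gm_map]
    exact Submodule.smul_mem _ _ (Submodule.subset_span ⟨j, rfl⟩)
  refine eq_top_iff.mpr fun a _ => ?_
  obtain ⟨a', rfl⟩ := hsurj a
  exact (Submodule.Quotient.mk_eq_zero N).mp (congrArg (fun f => f.hom a') hz)

end AVMulDetLib
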