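import Groth.Prelude.Def_CohB1
import Groth.Agent.AVMulDetLib.Span
import Groth.Agent.DetDegLib.Main
import Groth.Agent.CurvLib.StalkSum
import Mathlib.LinearAlgebra.Matrix.Determinant.Basic

/-!
# The multiplication map to the determinant is not injective
-/

set_option autoImplicit false
set_option maxHeartbeats 1000000
set_option backward.isDefEq.respectTransparency false
set_option linter.style.haveILetI false
universe u
open CategoryTheory CategoryTheory.Limits AlgebraicGeometry TopologicalSpace Opposite DevissLib QCohLib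
open scoped TensorProduct

noncomputable section

namespace AVMulDetLib

variable {X : Scheme.{u}}

theorem ιMulti_eq_det {R M : Type*} [CommRing R] [AddCommGroup M] [Module R M] {r : ℕ}
    (b : Module.Basis (Fin r) R M) (v : Fin r → M) :
    exteriorPower.ιMulti R r v = b.det v • exteriorPower.ιMulti R r b := by
  have h : exteriorPower.ιMulti R r = b.det.smulRight (exteriorPower.ιMulti R r b) := by
    refine Module.Basis.ext_alternating b fun c hc => ?_
    let π : Equiv.Perm (Fin r) := Equiv.ofBijective c ⟨hc, Finite.surjective_of_injective hc⟩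
    show exteriorPower.ιMulti R r (b ∘ π) = b.det (b ∘ π) • _
    rw [AlternatingMap.map_perm, AlternatingMap.map_perm, Module.Basis.det_self, smul_assoc, one_smul]
  exact congr($h v)

/-- The alternating expansion vanishes. -/
theorem sum_det_smul_eq_zero {R M : Type*} [CommRing R] [AddCommGroup M] [Module R M] {r : ℕ}
    (b : Module.Basis (Fin r) R M) (v : Fin (r + 1) → M) :
    ∑ i : Fin (r + 1), ((-1 : R) ^ (i : ℕ) * b.det (v ∘ i.succAbove)) • v i = 0 := by
  refine b.repr.injective (Finsupp.ext fun a => ?_)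
  simp only [map_sum, map_smul, map_zero, Finsupp.finsetSum_apply, Finsupp.smul_apply, smul_eq_mul,
    Finsupp.coe_zero, Pi.zero_apply]
  let M' : Matrix (Fin (r + 1)) (Fin (r + 1)) R := Matrix.of fun p i =>
    Fin.cases (b.repr (v i) a) (fun q => b.repr (v i) q) p
  have h0 : M'.det = 0 := Matrix.det_zero_of_row_eq (i := 0) (j := a.succ) (Fin.succ_ne_zero a).symm
    (by funext i; simp [M'])
  rw [← h0, Matrix.det_succ_row_zero]
  refine Finset.sum_congr rfl fun i _ => ?_
  rw [Module.Basis.det_apply]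
  have : M'.submatrix Fin.succ i.succAbove = b.toMatrix (v ∘ i.succAbove) := by
    ext p q; simp [M', Module.Basis.toMatrix_apply]
  rw [this]
  simp only [M', Matrix.of_apply, Fin.cases_zero]
  ring

theorem sum_tmul_eq_zero {R M N : Type*} [CommRing R] [AddCommGroup M] [Module R M] [AddCommGroup N]
    [Module R N] {r : ℕ} (b : Module.Basis (Fin r) R M) (v : Fin (r + 1) → M) (y : N) :
    ∑ i : Fin (r + 1), (-1 : ℤ) ^ (i : ℕ) • (v i ⊗ₜ[R] (b.det (v ∘ i.succAbove) • y)) = 0 := by
  have h : ∀ i : Fin (r + 1), (-1 : ℤ) ^ (i : ℕ) • (v i ⊗ₜ[R] (b.det (v ∘ i.succAbove) • y)) =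
      (((-1 : R) ^ (i : ℕ) * b.det (v ∘ i.succAbove)) • v i) ⊗ₜ[R] y := fun i => by
    rw [TensorProduct.tmul_smul, TensorProduct.smul_tmul', ← Int.cast_smul_eq_zsmul R,
      TensorProduct.smul_tmul', smul_smul, Int.cast_pow, Int.cast_neg, Int.cast_one]
  simp_rw [h]
  rw [← TensorProduct.sum_tmul, sum_det_smul_eq_zero b v, TensorProduct.zero_tmul]

theorem eq_of_affine {M : X.Modules} (a b : Γ(M, ⊤))
    (h : ∀ V : X.affineOpens, M.presheaf.map (homOfLE (le_top : V.1 ≤ ⊤)).op a =
      M.presheaf.map (homOfLE (le_top : V.1 ≤ ⊤)).op b) : a = b := by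
  refine TopCat.Presheaf.section_ext ((toAbF X).obj M : TopCat.Sheaf AddCommGrpCat X.toTopCat) ⊤ a b
    fun y hy => ?_
  obtain ⟨V, hV, hyV⟩ := QCohLib.exists_affine_nhd y
  exact ((gm_map M (le_top : V ≤ ⊤) y hyV a).symm.trans (congrArg (gm M y hyV) (h ⟨V, hV⟩))).trans
    (gm_map M (le_top : V ≤ ⊤) y hyV b)

variable (k : Type u) [Field k] [X.Over (Spec (CommRingCat.of k))]
  [IsProper (X ↘ Spec (CommRingCat.of k))] [IsIntegral X]

theorem exists_wedge [X.IsSeparated] {r : ℕ} {E D : X.Modules}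
    (φ : ∀ U : X.affineOpens, (D.val.obj (op U.1)) ≃ₗ[Γ(X, U.1)] ↥(⋀[Γ(X, U.1)]^r (E.val.obj (op U.1))))
    (hφ : ∀ (U V : X.affineOpens) (h : V.1 ≤ U.1) (e : Fin r → E.val.obj (op U.1)),
      D.val.map (homOfLE h).op ((φ U).symm (exteriorPower.ιMulti _ r e)) =
        (φ V).symm (exteriorPower.ιMulti _ r (fun j => E.val.map (homOfLE h).op (e j))))
    (S : Fin r → Γ(E, (⊤ : X.Opens))) :
    ∃ g : Γ(D, (⊤ : X.Opens)), ∀ V : X.affineOpens,
      D.presheaf.map (homOfLE (le_top : V.1 ≤ ⊤)).op g =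
        DetDegLib.wsec φ V fun i => E.presheaf.map (homOfLE (le_top : V.1 ≤ ⊤)).op (S i) := by
  let w : ∀ V : X.affineOpens, Γ(D, V.1) := fun V =>
    DetDegLib.wsec φ V fun i => E.presheaf.map (homOfLE (le_top : V.1 ≤ ⊤)).op (S i)
  have hres : ∀ (U W : X.affineOpens) (h : W.1 ≤ U.1),
      D.presheaf.map (homOfLE h).op (w U) = w W := fun U W h => by
    refine (DetDegLib.wsec_res φ hφ U W h _).trans (congrArg (DetDegLib.wsec φ W) (funext fun i => ?_))
    exact (congrArg (fun f => f (S i)) (E.presheaf.map_comp (homOfLE (le_top : U.1 ≤ ⊤)).op (homOfLE h).op)).symm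
  obtain ⟨g, hg, -⟩ := TopCat.Sheaf.existsUnique_gluing'
    ((toAbF X).obj D : TopCat.Sheaf AddCommGrpCat X.toTopCat) (fun V : X.affineOpens => V.1) ⊤
    (fun V => homOfLE le_top)
    (fun x _ => by
      obtain ⟨V, hV, hxV⟩ := QCohLib.exists_affine_nhd x
      exact Opens.mem_iSup.2 ⟨⟨V, hV⟩, hxV⟩)
    w (fun U V => by
      let W : X.affineOpens := ⟨U.1 ⊓ V.1, U.2.inf V.2⟩
      exact (hres U W inf_le_left).trans (hres V W inf_le_right).symm)
  exact ⟨g, hg⟩

theorem not_injective {r : ℕ} {E D : X.Modules} (hE : FlatMod.IsFinLocFreeOfRank r E)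
    (hgen : ∃ (U : X.Opens) (J : Type u) (s : J → (Coh.structureModule X ⟶ E)),
      (U : Set ↥X).Nonempty ∧ Epi ((Scheme.Modules.restrictFunctor U.ι).map (Sigma.desc s)))
    (hk : Function.Bijective (Coh.toGlobal (X ↘ Spec (CommRingCat.of k))))
    (hlt : r < Module.finrank k (Coh.HH X E 0))
    (hD : ExtPow.IsExtPow r E D) :
    ¬ Function.Injective
      ((toSheafify (Opens.grothendieckTopology ↥X) (CohB1.tensorPre E D).presheaf).app (op ⊤)) := by
  classical
  haveI : X.IsSeparated := ⟨by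
    rw [← Limits.terminal.comp_from (X ↘ Spec (CommRingCat.of k))]
    infer_instance⟩
  haveI := CurvLib.isNoetherian k (X := X)
  haveI : Coh.IsQCoh E := (CurvLib.isCoh_of_locFree hE).1
  obtain ⟨φ, hφ⟩ := hD
  choose w hw using fun S => exists_wedge (E := E) (D := D) φ hφ S
  -- the sections
  obtain ⟨U, J, s, ⟨x, hxU⟩, hepi⟩ := hgen
  obtain ⟨W, hxW, b, hb⟩ := DetDegLib.exists_good_affine (k := k) hE x
  let B : Module.Basis (Fin r) (X.presheaf.stalk x) ((St x).obj E) :=
    Module.Basis.ofEquivFun (LinearEquiv.ofBijective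
      (Fintype.linearCombination (X.presheaf.stalk x) fun i => gm E x hxW (b i)) (hb x hxW)).symm
  let BW : Module.Basis (Fin r) Γ(X, W.1) (E.val.obj (op W.1)) :=
    Module.Basis.ofEquivFun (LinearEquiv.ofBijective
      (Fintype.linearCombination Γ(X, W.1) (M := E.val.obj (op W.1)) b) (DetDegLib.frame_bijective W.2 b hb)).symm
  let T : J → Γ(E, (⊤ : X.Opens)) := fun j => (s j).app ⊤ (1 : Γ(X, ⊤))
  have hspan := span_germ_eq_top U s hepi hxU
  obtain ⟨σ, hσ⟩ : ∃ σ : Fin r → J, B.det (fun i => gm E x (show x ∈ (⊤ : X.Opens) from trivial) (T (σ i))) ≠ 0 := by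
    by_contra hc
    push Not at hc
    have hmem : ∀ i, ∃ a : J →₀ X.presheaf.stalk x,
        (a.sum fun j c => c • gm E x (show x ∈ (⊤ : X.Opens) from trivial) (T j)) = B i := fun i =>
      Finsupp.mem_span_range_iff_exists_finsupp.mp (hspan ▸ Submodule.mem_top)
    choose a ha using hmem
    refine one_ne_zero (α := X.presheaf.stalk x) ((B.det_self).symm.trans ?_)
    have : (B : Fin r → (St x).obj E) = fun i => ∑ j ∈ (a i).support, a i j • gm E x (show x ∈ (⊤ : X.Opens) from trivial) (T j) :=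
      funext fun i => (ha i).symm
    conv_lhs => arg 2; rw [this]
    rw [← AlternatingMap.coe_multilinearMap, MultilinearMap.map_sum_finset]
    refine Finset.sum_eq_zero fun g _ => ?_
    rw [MultilinearMap.map_smul_univ, AlternatingMap.coe_multilinearMap, hc g, smul_zero]
  have hne : w (fun i => T (σ i)) ≠ 0 := by
    intro h
    apply hσ
    let v : Fin r → Γ(E, W.1) := fun i => E.presheaf.map (homOfLE (le_top : W.1 ≤ ⊤)).op (T (σ i))
    have h1 : DetDegLib.wsec φ W v = 0 := (hw _ W).symm.trans (by rw [h]; exact map_zero _)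
    have h2 : exteriorPower.ιMulti Γ(X, W.1) r (M := E.val.obj (op W.1)) v = 0 :=
      (φ W).symm.map_eq_zero_iff.mp h1
    have h3 : BW.det v = 0 := by
      have := congrArg (exteriorPower.alternatingMapLinearEquiv BW.det) h2
      simpa using this
    let G := BW.toMatrix v
    have h4 : (fun i => gm E x (show x ∈ (⊤ : X.Opens) from trivial) (T (σ i))) =
        fun j => ∑ i, X.presheaf.germ W.1 x hxW (G i j) • gm E x hxW (BW i) := by
      funext j
      rw [← DetDegLib.gm_combo E (fun i => (BW i : Γ(E, W.1))) hxW]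
      exact (gm_map E le_top x hxW (T (σ j))).symm.trans
        (congrArg (gm E x hxW) (BW.sum_toMatrix_smul_self v j).symm)
    have hBW : ∀ i, gm E x hxW (BW i) = B i := fun i => by
      simp [BW, B, Module.Basis.coe_ofEquivFun, Fintype.linearCombination_apply_single]
    rw [h4, Module.Basis.det_apply]
    have h5 : B.toMatrix (fun j => ∑ i, X.presheaf.germ W.1 x hxW (G i j) • gm E x hxW (BW i)) =
        (X.presheaf.germ W.1 x hxW).hom.mapMatrix G := by
      ext i j
      simp [Module.Basis.toMatrix_apply, hBW, Finsupp.single_apply]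
    rw [h5, ← RingHom.map_det]
    exact (congrArg _ ((BW.det_apply v).symm.trans h3)).trans (map_zero _)
  -- scalars
  letI := CurvLib.secModule (k := k) E
  obtain ⟨e0, he0⟩ : ∃ e0 : Γ(E, (⊤ : X.Opens)),
      e0 ∉ Submodule.span k (Set.range fun i => T (σ i)) := by
    by_contra hc
    push Not at hc
    have htop : Submodule.span k (Set.range fun i => T (σ i)) = ⊤ := eq_top_iff.mpr fun e _ => hc e
    have := (finrank_range_le_card (R := k) (fun i => T (σ i))).trans_eq (Fintype.card_fin r)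
    rw [Set.finrank, htop, finrank_top, ← (CurvLib.hhZeroEquiv (k := k) E).finrank_eq] at this
    omega
  obtain ⟨f₀, hf₀, hf₀0⟩ := Submodule.exists_dual_map_eq_bot_of_notMem he0 inferInstance
  let ι₀ : k →+* Γ(X, ⊤) := Coh.toGlobal (X ↘ Spec (CommRingCat.of k))
  let f : (E.val.obj (op (⊤ : X.Opens))) →ₗ[Γ(X, ⊤)] Γ(X, ⊤) :=
    { toFun := fun m => ι₀ (f₀ (show Γ(E, (⊤ : X.Opens)) from m))
      map_add' := fun m m' => (congrArg ι₀ (map_add f₀ _ _)).trans (map_add ι₀ _ _)
      map_smul' := fun c m => by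
        obtain ⟨d, rfl⟩ := hk.2 c
        exact (congrArg ι₀ (map_smul f₀ d (show Γ(E, (⊤ : X.Opens)) from m))).trans (map_mul ι₀ _ _) }
  let S : Fin (r + 1) → Γ(E, (⊤ : X.Opens)) := Fin.cons e0 fun i => T (σ i)
  let t : ((CohB1.tensorPre E D).obj (op (⊤ : X.Opens)) :) :=
    ∑ i : Fin (r + 1), (-1 : ℤ) ^ (i : ℕ) •
      (show ((CohB1.tensorPre E D).obj (op (⊤ : X.Opens)) :) from
        (show E.val.obj (op (⊤ : X.Opens)) from S i) ⊗ₜ[Γ(X, ⊤)] (show D.val.obj (op (⊤ : X.Opens)) from w (S ∘ i.succAbove)))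
  have ht : t ≠ 0 := by
    intro ht
    let L : (E.val.obj (op (⊤ : X.Opens))) ⊗[Γ(X, ⊤)] (D.val.obj (op (⊤ : X.Opens))) →ₗ[Γ(X, ⊤)]
        D.val.obj (op (⊤ : X.Opens)) :=
      TensorProduct.lift ((LinearMap.lsmul Γ(X, ⊤) (D.val.obj (op (⊤ : X.Opens)))).comp f)
    have h1 : L t = 0 := (congrArg L ht).trans (map_zero L)
    have hf1 : ∀ i : Fin r, f (T (σ i)) = 0 := fun i => (congrArg ι₀
      ((Submodule.eq_bot_iff _).mp hf₀0 _ ⟨_, Submodule.subset_span ⟨i, rfl⟩, rfl⟩)).trans (map_zero ι₀)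
    have h2 : L t = f e0 • w (S ∘ Fin.succAbove 0) := by
      change L (∑ i : Fin (r + 1), _) = _
      rw [map_sum, Fin.sum_univ_succ, Finset.sum_eq_zero, add_zero]
      · exact (map_zsmul L _ _).trans (by simp [L, S])
      · intro i _
        exact (map_zsmul L _ _).trans (by simp [L, S, hf1])
    have h3 : S ∘ Fin.succAbove 0 = fun i => T (σ i) := by
      funext i; simp [S, Fin.succAbove_zero]
    rw [h2, h3] at h1
    obtain ⟨u, hu⟩ : IsUnit (f e0) := (IsUnit.mk0 (f₀ e0) hf₀).map ι₀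
    rw [← hu] at h1
    exact hne ((Units.isUnit u).smul_eq_zero.mp h1)
  intro hinj
  refine ht (hinj (Eq.trans ?_ (map_zero _).symm))
  let P := (CohB1.tensorPre E D).presheaf
  let η := toSheafify (Opens.grothendieckTopology ↥X) P
  refine TopCat.Presheaf.section_ext ((presheafToSheaf (Opens.grothendieckTopology ↥X) AddCommGrpCat.{u}).obj P :
    TopCat.Sheaf AddCommGrpCat X.toTopCat) ⊤ _ _ fun y hy => ?_
  obtain ⟨V, hyV, c, hc⟩ := DetDegLib.exists_good_affine (k := k) hE y
  have hz : P.map (homOfLE (le_top : V.1 ≤ ⊤)).op t = 0 := by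
    refine (map_sum (P.map (homOfLE (le_top : V.1 ≤ ⊤)).op).hom _ _).trans ?_
    let BV : Module.Basis (Fin r) Γ(X, V.1) (E.val.obj (op V.1)) :=
      Module.Basis.ofEquivFun (LinearEquiv.ofBijective
        (Fintype.linearCombination Γ(X, V.1) (M := E.val.obj (op V.1)) c) (DetDegLib.frame_bijective V.2 c hc)).symm
    let v : Fin (r + 1) → E.val.obj (op V.1) := fun i => E.presheaf.map (homOfLE (le_top : V.1 ≤ ⊤)).op (S i)
    refine (Finset.sum_congr rfl fun i _ => ?_).trans
      (sum_tmul_eq_zero BV v ((φ V).symm (exteriorPower.ιMulti Γ(X, V.1) r BV)))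
    refine (map_zsmul (P.map (homOfLE (le_top : V.1 ≤ ⊤)).op).hom _ _).trans (congrArg _ ?_)
    refine (PresheafOfModules.Monoidal.tensorObj_map_tmul (M₁ := CohB1.toPMod E) (M₂ := CohB1.toPMod D)
      (homOfLE (le_top : V.1 ≤ ⊤)).op _ _).trans (congrArg (fun z => v i ⊗ₜ[Γ(X, V.1)] z) ?_)
    refine (hw (S ∘ i.succAbove) V).trans ?_
    exact (congrArg (φ V).symm (ιMulti_eq_det BV (v ∘ i.succAbove))).trans (map_smul (φ V).symm _ _)
  change TopCat.Presheaf.germ (sheafify (Opens.grothendieckTopology ↥X) P) ⊤ y hy (η.app (op ⊤) t) =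
    TopCat.Presheaf.germ (sheafify (Opens.grothendieckTopology ↥X) P) ⊤ y hy 0
  rw [map_zero, ← TopCat.Presheaf.germ_res_apply _ (homOfLE (le_top : V.1 ≤ ⊤)) y hyV,
    ← NatTrans.naturality_apply, hz, map_zero, map_zero]

end AVMulDetLib
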